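import Groth.Agent.ModGroth.Flat
import Groth.Agent.ModGroth.Functors
import Mathlib.Algebra.Homology.ShortComplex.Ab

/-!
# Tensoring presheaves with a flat sheaf: kernels are kept locally
-/

universe u

open CategoryTheory Limits Opposite MonoidalCategory
open scoped TensorProduct

namespace Groth.Agent.EqFlat

open Groth.Agent.ModGroth

variable {C : Type u} [SmallCategory C] {J : GrothendieckTopology C} {O : Sheaf J CommRingCat.{u}}

/-- Presheaf tensor with `N` followed by sheafification is `sh ⋙ - ⊗ N`. -/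
noncomputable def tensorShIso (N : ModSite.Mod O) :
    tensorRight ((fg O).obj N) ⋙ sh O ≅ sh O ⋙ tR N :=
  NatIso.ofComponents (fun M => @asIso _ _ _ _ ((sh O).map (eta' M ▷ (fg O).obj N))
    (isIso_sh_whiskerRight_eta' M _)) fun {M M'} g =>
      ((sh O).map_comp _ _).symm.trans ((congrArg (sh O).map
        (((tensorRight ((fg O).obj N)).map_comp g (eta' M')).symm.trans
          ((congrArg (tensorRight ((fg O).obj N)).map (eta'_naturality g)).trans
            ((tensorRight ((fg O).obj N)).map_comp _ _)))).trans ((sh O).map_comp _ _))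

lemma preservesFiniteLimits_tensor_sh {N : ModSite.Mod O} (hN : ModSite.IsFlat N) :
    PreservesFiniteLimits (tensorRight ((fg O).obj N) ⋙ sh O) :=
  have := hN.1
  have : PreservesFiniteLimits (sh O) :=
    inferInstanceAs (PreservesFiniteLimits
      (PresheafOfModules.sheafification.{u} (𝟙 (ModSite.ringSh O).obj)))
  have : PreservesFiniteLimits (sh O ⋙ tR N) := comp_preservesFiniteLimits _ _
  preservesFiniteLimits_of_natIso (tensorShIso N).symm

lemma toSheafify_app_map {P Q : PM O} (θ : P ⟶ Q) (W : Cᵒᵖ) (x : P.obj W) :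
    ((SheafOfModules.toSheaf _).map ((sh O).map θ)).hom.app W
        ((CategoryTheory.toSheafify J P.presheaf).app W x) =
      (CategoryTheory.toSheafify J Q.presheaf).app W (θ.app W x) :=
  (ConcreteCategory.congr_hom
    (congrArg (fun α => NatTrans.app α W) (CategoryTheory.toSheafify_naturality J (pmap θ))) x).symm

/-- If `N` is flat, an element killed by `m ▷ N` comes locally from the kernel of `m` tensor `N`. -/
lemma exists_local_kernel_lift {N : ModSite.Mod O} (hN : ModSite.IsFlat N) {P Q : PM O} (m : P ⟶ Q)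
    {U : C} (z : (P ⊗ (fg O).obj N : PM O).obj (op U))
    (hz : (m ▷ (fg O).obj N).app (op U) z = 0) :
    ∃ S ∈ J U, ∀ ⦃V : C⦄ (g : V ⟶ U), S g →
      ∃ k : (kernel m ⊗ (fg O).obj N : PM O).obj (op V),
        (kernel.ι m ▷ (fg O).obj N).app (op V) k = res (P ⊗ (fg O).obj N : PM O) g.op z := by
  have := preservesFiniteLimits_tensor_sh hN
  have := toSheaf_preservesLimits (ModSite.ringSh O)
  let G : PM O ⥤ AddCommGrpCat.{u} := (tensorRight ((fg O).obj N) ⋙ sh O) ⋙
    (SheafOfModules.toSheaf.{u} (ModSite.ringSh O) ⋙ sheafToPresheaf J AddCommGrpCat.{u} ⋙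
      (evaluation _ _).obj (op U))
  have : PreservesFiniteLimits G := comp_preservesFiniteLimits _ _
  have : G.PreservesZeroMorphisms := Functor.preservesZeroMorphisms_of_preserves_terminal_object
  let T := ShortComplex.mk (kernel.ι m) m (kernel.condition m)
  have hT : T.Exact := T.exact_of_f_is_kernel (kernelIsKernel m)
  have hG := hT.map_of_mono_of_preservesKernel G inferInstance inferInstance
  rw [ShortComplex.ab_exact_iff] at hG
  obtain ⟨w, hw⟩ := hG ((CategoryTheory.toSheafify J (P ⊗ (fg O).obj N : PM O).presheaf).app (op U) z)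
    ((toSheafify_app_map (m ▷ (fg O).obj N) (op U) z).trans
      ((congrArg _ hz).trans (map_zero _)))
  let A : Cᵒᵖ ⥤ AddCommGrpCat.{u} := (kernel m ⊗ (fg O).obj N : PM O).presheaf
  let B : Cᵒᵖ ⥤ AddCommGrpCat.{u} := (P ⊗ (fg O).obj N : PM O).presheaf
  let ηA := CategoryTheory.toSheafify J A
  let ηB := CategoryTheory.toSheafify J B
  let S₁ : Sieve U := Presheaf.imageSieve (U := U) ηA w
  let R : ∀ ⦃V : C⦄ ⦃g : V ⟶ U⦄, S₁ g → Sieve V := fun V g hg =>
    Presheaf.equalizerSieve (F := B) (X := op V)
      ((kernel.ι m ▷ (fg O).obj N).app (op V) hg.choose : B.obj (op V))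
      (res (P ⊗ (fg O).obj N : PM O) g.op z : B.obj (op V))
  refine ⟨Sieve.bind S₁.arrows R, J.bind_covering (Presheaf.imageSieve_mem J ηA (U := op U) w)
    (fun V g hg => ?_), fun V g hg => ?_⟩
  · refine Presheaf.equalizerSieve_mem J ηB (X := op V) _ _ ?_
    refine (toSheafify_app_map (kernel.ι m ▷ (fg O).obj N) (op V) hg.choose).symm.trans ?_
    refine (congrArg _ hg.choose_spec).trans ?_
    refine (NatTrans.naturality_apply _ g.op w).trans ?_
    refine (congrArg _ hw).trans ?_
    exact (NatTrans.naturality_apply ηB g.op z).symm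
  · obtain ⟨W, h, g', hg', hh, rfl⟩ := hg
    refine ⟨res (kernel m ⊗ (fg O).obj N : PM O) h.op hg'.choose, ?_⟩
    refine (res_app _ h.op hg'.choose).trans ?_
    rw [op_comp, res_comp]
    exact hh

end Groth.Agent.EqFlat
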