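import Groth.Agent.EqFlat.Key
import Mathlib.Algebra.Category.ModuleCat.Sheaf.Quasicoherent

/-!
# Factorisation through a free module on a slice
-/

universe u

open CategoryTheory Limits Opposite

namespace Groth.Agent.EqFlat

variable {C : Type u} [SmallCategory C] {J : GrothendieckTopology C} {R : Sheaf J RingCat.{u}}

section Ev

variable {U : C} {M : SheafOfModules.{u} (R.over U)}

/-- The value at `W` of a morphism out of the structure sheaf. -/
noncomputable def ev (W : Over U) :
    (SheafOfModules.unit (R.over U) ⟶ M) →+ M.val.obj (op W) :=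
  AddMonoidHom.mk' (fun e => e.val.app (op W) (1 : R.obj.obj (op W.left))) fun _ _ => rfl

lemma ev_map (e : SheafOfModules.unit (R.over U) ⟶ M) {W W' : Over U} (k : W' ⟶ W) :
    M.val.map k.op (ev W e) = ev W' e := by
  refine (PresheafOfModules.naturality_apply e.val k.op (1 : R.obj.obj (op W.left))).symm.trans ?_
  exact congrArg (e.val.app (op W')) (map_one (R.obj.map k.left.op).hom)

/-- The value at `W` of an endomorphism of the structure sheaf, as a scalar. -/
noncomputable def sc (W : Over U) :
    (SheafOfModules.unit (R.over U) ⟶ SheafOfModules.unit (R.over U)) →+ (R.over U).obj.obj (op W) :=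
  ev W

lemma ev_comp (W : Over U) (a : SheafOfModules.unit (R.over U) ⟶ SheafOfModules.unit (R.over U))
    (h : SheafOfModules.unit (R.over U) ⟶ M) :
    ev W (a ≫ h) = sc W a • ev W h := by
  refine Eq.trans ?_ (map_smul (h.val.app (op W)).hom (sc W a) (1 : (R.over U).obj.obj (op W)))
  exact congrArg (h.val.app (op W)) (mul_one (sc W a)).symm

/-- The terminal object of the slice. -/
abbrev top' (U : C) : Over U := Over.mk (𝟙 U)

/-- The compatible family with a given value at `top' U`. -/
noncomputable def topSec (m : M.val.obj (op (top' U))) : M.sections :=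
  PresheafOfModules.sectionsMk
    (fun W => M.val.presheaf.map (Over.homMk W.unop.hom : W.unop ⟶ top' U).op m)
    (fun {W W'} f => by
      have hk : (Over.homMk W.unop.hom : W.unop ⟶ top' U).op ≫ f =
          (Over.homMk W'.unop.hom : W'.unop ⟶ top' U).op :=
        Quiver.Hom.unop_inj (Over.OverMorphism.ext (Over.w f.unop))
      exact (ConcreteCategory.congr_hom (M.val.presheaf.map_comp _ f) m).symm.trans
        (congrArg (fun k => M.val.presheaf.map k m) hk))

/-- The morphism out of the structure sheaf with a given value at `top' U`. -/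
noncomputable def mkHom (m : M.val.obj (op (top' U))) : SheafOfModules.unit (R.over U) ⟶ M :=
  M.unitHomEquiv.symm (topSec m)

lemma ev_mkHom (m : M.val.obj (op (top' U))) : ev (top' U) (mkHom m) = m := by
  refine (congrArg (fun s : M.sections => s.1 (op (top' U)))
    (M.unitHomEquiv.apply_symm_apply (topSec m))).trans ?_
  have hk : (Over.homMk (𝟙 U) : top' U ⟶ top' U).op = 𝟙 _ := rfl
  exact (congrArg (fun k => M.val.presheaf.map k m) hk).trans
    (ConcreteCategory.congr_hom (M.val.presheaf.map_id _) m)

lemma hom_ext_top {e e' : SheafOfModules.unit (R.over U) ⟶ M}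
    (h : ev (top' U) e = ev (top' U) e') : e = e' := by
  apply M.unitHomEquiv.injective
  ext W
  change ev W.unop e = ev W.unop e'
  rw [← ev_map e (Over.homMk W.unop.hom : W.unop ⟶ top' U), ← ev_map e' (Over.homMk W.unop.hom : W.unop ⟶ top' U), h]

end Ev

section Matrix

variable {U : C}

open SheafOfModules

/-- Projection of a finite free module. -/
noncomputable def proj {σ : Type u} [DecidableEq σ] (j : σ) :
    free (R := R.over U) σ ⟶ SheafOfModules.unit _ :=
  Cofan.IsColimit.desc (isColimitFreeCofan σ) fun i => if i = j then 𝟙 _ else 0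

lemma ιFree_proj {σ : Type u} [DecidableEq σ] (i j : σ) :
    ιFree (R := R.over U) i ≫ proj j = if i = j then 𝟙 _ else 0 :=
  Cofan.IsColimit.fac (isColimitFreeCofan σ) _ i

lemma sum_proj_ιFree {σ : Type u} [DecidableEq σ] [Fintype σ] :
    ∑ j, proj j ≫ ιFree (R := R.over U) j = 𝟙 (free σ) := by
  refine Cofan.IsColimit.hom_ext (isColimitFreeCofan σ) _ _ fun i => ?_
  change ιFree i ≫ (∑ j, proj j ≫ ιFree j : free (R := R.over U) σ ⟶ free σ) = ιFree i ≫ 𝟙 (free σ)
  refine (Preadditive.comp_sum _ _ _).trans ?_
  rw [Category.comp_id, Finset.sum_eq_single i]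
  · simp [← Category.assoc, ιFree_proj]
  · intro j _ hj
    simp [← Category.assoc, ιFree_proj, Ne.symm hj]
  · simp

end Matrix

end Groth.Agent.EqFlat
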