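import Groth.Agent.EqFlat.Exact
import Mathlib.LinearAlgebra.TensorProduct.Finiteness

/-!
# The equational criterion of flatness on sections
-/

universe u

open CategoryTheory Limits Opposite MonoidalCategory
open scoped TensorProduct

namespace Groth.Agent.EqFlat

open Groth.Agent.ModGroth

variable {C : Type u} [SmallCategory C] {J : GrothendieckTopology C} {O : Sheaf J CommRingCat.{u}}

/-- `s` copies of the representable presheaf of sets. -/
def pairs (U : C) (s : ℕ) : Cᵒᵖ ⥤ Type u where
  obj W := (W.unop ⟶ U) × ULift.{u} (Fin s)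
  map f := ↾fun x => (f.unop ≫ x.1, x.2)
  map_id W := by ext x <;> simp
  map_comp f g := by ext x <;> simp

/-- Free presheaf of rank `s` on `U`. -/
noncomputable abbrev Fp (O : Sheaf J CommRingCat.{u}) (U : C) (s : ℕ) : PM O :=
  PresheafOfModules.freeObj (pairs U s)

/-- Free presheaf of rank one on `U`. -/
noncomputable abbrev Ep (O : Sheaf J CommRingCat.{u}) (U : C) : PM O :=
  PresheafOfModules.freeObj (yoneda.obj U)

lemma Ep_res_single (U : C) {W W' : Cᵒᵖ} (f : W ⟶ W') (h : W.unop ⟶ U) (r : O.obj.obj W) :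
    res (Ep O U) f (Finsupp.single h r) = Finsupp.single (f.unop ≫ h) ((O.obj.map f).hom r) := by
  have e : (Finsupp.single h r : (W.unop ⟶ U) →₀ O.obj.obj W) =
      r • Finsupp.single h (1 : O.obj.obj W) := by rw [Finsupp.smul_single', mul_one]
  have e' : (Finsupp.single (f.unop ≫ h) ((O.obj.map f).hom r) : (W'.unop ⟶ U) →₀ O.obj.obj W') =
      (O.obj.map f).hom r • Finsupp.single (f.unop ≫ h) (1 : O.obj.obj W') := by
    rw [Finsupp.smul_single', mul_one]
  rw [e, e']
  refine (res_smul (Ep O U) f r _).trans (congrArg _ ?_)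
  exact ModuleCat.freeDesc_apply _ h

lemma Fp_res_single_one (U : C) (s : ℕ) {W W' : Cᵒᵖ} (f : W ⟶ W') (x : (pairs U s).obj W) :
    res (Fp O U s) f (Finsupp.single x 1) =
      Finsupp.single (f.unop ≫ x.1, x.2) (1 : O.obj.obj W') :=
  ModuleCat.freeDesc_apply _ x

/-- The row `a` as a morphism of free presheaves. -/
noncomputable def row (U : C) {s : ℕ} (a : Fin s → O.obj.obj (op U)) : Fp O U s ⟶ Ep O U :=
  PresheafOfModules.freeObjDesc
    { app := fun W => ↾fun x => (Finsupp.single x.1 ((O.obj.map x.1.op).hom (a x.2.down)) :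
        (W.unop ⟶ U) →₀ O.obj.obj W)
      naturality := fun W W' f => by
        ext x
        refine Eq.trans ?_ (Ep_res_single U f x.1 _).symm
        change Finsupp.single (f.unop ≫ x.1) ((O.obj.map (f.unop ≫ x.1).op).hom (a x.2.down)) = _
        congr 1
        rw [op_comp, Functor.map_comp]
        rfl }

lemma row_app_single (U : C) {s : ℕ} (a : Fin s → O.obj.obj (op U)) {W : Cᵒᵖ}
    (x : (pairs U s).obj W) (r : O.obj.obj W) :
    (row U a).app W (Finsupp.single x r) =
      (Finsupp.single x.1 (r * (O.obj.map x.1.op).hom (a x.2.down)) : (W.unop ⟶ U) →₀ O.obj.obj W) := by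
  have e : (Finsupp.single x r : (pairs U s).obj W →₀ O.obj.obj W) =
      r • Finsupp.single x (1 : O.obj.obj W) := by rw [Finsupp.smul_single', mul_one]
  rw [e]
  refine (map_smul ((row U a).app W).hom r _).trans ?_
  refine (congrArg (r • ·) (ModuleCat.freeDesc_apply _ x)).trans ?_
  exact Finsupp.smul_single' r x.1 _

/-- The coefficient at `g`. -/
noncomputable def evE (U : C) {V : C} (g : V ⟶ U) :
    ((V ⟶ U) →₀ O.obj.obj (op V)) →ₗ[O.obj.obj (op V)] O.obj.obj (op V) :=
  Finsupp.lapply g

/-- The element `(g, j)` of `pairs U s`. -/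
def pr (U : C) {s : ℕ} {V : C} (g : V ⟶ U) (j : Fin s) : (pairs U s).obj (op V) := (g, ⟨j⟩)

lemma pr_inj {U : C} {s : ℕ} {V : C} {g g' : V ⟶ U} {j j' : Fin s} (e : pr U g j = pr U g' j') :
    g = g' ∧ j = j' :=
  ⟨congrArg (fun q : (V ⟶ U) × ULift.{u} (Fin s) => q.1) e,
    congrArg (fun q : (V ⟶ U) × ULift.{u} (Fin s) => q.2.down) e⟩

lemma row_app_apply (U : C) {s : ℕ} (a : Fin s → O.obj.obj (op U)) {V : C} (g : V ⟶ U)
    (x : (pairs U s).obj (op V) →₀ O.obj.obj (op V)) :
    evE U g ((row U a).app (op V) x) =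
      ∑ j, x (pr U g j) * (O.obj.map g.op).hom (a j) := by
  classical
  induction x using Finsupp.induction_linear with
  | zero =>
    refine (congrArg (evE U g) (map_zero ((row U a).app (op V)).hom)).trans ?_
    refine (map_zero (evE U g)).trans (Finset.sum_eq_zero fun j _ => ?_).symm
    exact zero_mul _
  | add x y hx hy =>
    refine (congrArg (evE U g) (map_add ((row U a).app (op V)).hom x y)).trans ?_
    refine (map_add (evE U g) _ _).trans ?_
    refine (congrArg₂ (· + ·) hx hy).trans ?_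
    rw [← Finset.sum_add_distrib]
    exact Finset.sum_congr rfl fun j _ => (add_mul _ _ _).symm
  | single p r =>
    obtain ⟨h, i, rfl⟩ : ∃ (h : V ⟶ U) (i : Fin s), p = pr U h i :=
      ⟨Prod.fst (α := V ⟶ U) (β := ULift.{u} (Fin s)) p,
        (Prod.snd (α := V ⟶ U) (β := ULift.{u} (Fin s)) p).down, rfl⟩
    rw [row_app_single]
    change (Finsupp.single h (r * (O.obj.map h.op).hom (a i)) : (V ⟶ U) →₀ O.obj.obj (op V)) g = _
    by_cases hg : h = g
    · subst hg
      rw [Finsupp.single_eq_same, Finset.sum_eq_single i]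
      · rw [Finsupp.single_eq_same]
      · intro j _ hj
        rw [Finsupp.single_eq_of_ne fun e => hj (pr_inj e).2, zero_mul]
      · simp
    · rw [Finsupp.single_eq_of_ne (fun e => hg e.symm)]
      refine (Finset.sum_eq_zero fun j _ => ?_).symm
      rw [Finsupp.single_eq_of_ne fun e => hg (pr_inj e).1.symm, zero_mul]

variable {H : ModSite.Mod O}

/-- The component at `g` of an element of `Fp(V) ⊗ H(V)`. -/
noncomputable def comp' (U : C) {s : ℕ} {V : C} (g : V ⟶ U) (j : Fin s) :
    (((pairs U s).obj (op V) →₀ O.obj.obj (op V)) ⊗[O.obj.obj (op V)] ((fg O).obj H).obj (op V))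
      →ₗ[O.obj.obj (op V)] ((fg O).obj H).obj (op V) :=
  TensorProduct.lift ((LinearMap.lsmul (O.obj.obj (op V)) _).comp (Finsupp.lapply (pr U g j)))

lemma comp'_tmul (U : C) {s : ℕ} {V : C} (g : V ⟶ U) (j : Fin s)
    (x : (pairs U s).obj (op V) →₀ O.obj.obj (op V)) (n : ((fg O).obj H).obj (op V)) :
    comp' U g j (x ⊗ₜ[O.obj.obj (op V)] n) = x (pr U g j) • n := rfl

/-- Equational criterion: a relation between sections of a flat module is locally trivial. -/
theorem exists_local_trivialisation (hH : ModSite.IsFlat H) {U : C} {s : ℕ}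
    (a : Fin s → O.obj.obj (op U)) (h : Fin s → ((fg O).obj H).obj (op U))
    (hah : ∑ j, a j • h j = 0) :
    ∃ S ∈ J U, ∀ ⦃V : C⦄ (g : V ⟶ U), S g →
      ∃ (t : ℕ) (b : Fin s → Fin t → O.obj.obj (op V)) (y : Fin t → ((fg O).obj H).obj (op V)),
        (∀ j, res ((fg O).obj H) g.op (h j) = ∑ k, b j k • y k) ∧
        ∀ k, ∑ j, (O.obj.map g.op).hom (a j) * b j k = 0 := by
  classical
  let N' := (fg O).obj H
  let m := row (O := O) U a
  let z : (Fp O U s ⊗ N' : PM O).obj (op U) :=
    ∑ j : Fin s, (Finsupp.single ((𝟙 U, ⟨j⟩) : (pairs U s).obj (op U)) (1 : O.obj.obj (op U)))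
      ⊗ₜ[O.obj.obj (op U)] (h j)
  have hz : (m ▷ N').app (op U) z = 0 := by
    refine (map_sum ((m ▷ N').app (op U)).hom _ _).trans ?_
    refine (Finset.sum_congr rfl (g := fun j =>
      (Finsupp.single (𝟙 U) (1 : O.obj.obj (op U)) : (U ⟶ U) →₀ O.obj.obj (op U))
        ⊗ₜ[O.obj.obj (op U)] (a j • h j)) fun j _ => ?_).trans ?_
    · rw [TensorProduct.tmul_smul, TensorProduct.smul_tmul', Finsupp.smul_single', mul_one]
      refine congrArg (fun q : (U ⟶ U) →₀ O.obj.obj (op U) => q ⊗ₜ[O.obj.obj (op U)] (h j)) ?_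
      refine (row_app_single U a _ _).trans ?_
      change Finsupp.single (𝟙 U) (1 * (O.obj.map (𝟙 U).op).hom (a j)) = _
      rw [one_mul, op_id, CategoryTheory.Functor.map_id]
      rfl
    · exact (TensorProduct.tmul_sum _ _ _).symm.trans
        ((congrArg _ hah).trans (TensorProduct.tmul_zero _ _))
  obtain ⟨S, hS, hS'⟩ := exists_local_kernel_lift hH m z hz
  refine ⟨S, hS, fun V g hg => ?_⟩
  obtain ⟨k, hk⟩ := hS' g hg
  obtain ⟨T, hT⟩ := TensorProduct.exists_finset
    (k : (kernel m).obj (op V) ⊗[O.obj.obj (op V)] N'.obj (op V))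
  let e := T.equivFin.symm
  let x : Fin T.card → ((pairs U s).obj (op V) →₀ O.obj.obj (op V)) :=
    fun l => (kernel.ι m).app (op V) (e l).1.1
  refine ⟨T.card, fun j l => x l (pr U g j), fun l => (e l).1.2, fun j => ?_, fun l => ?_⟩
  · have h1 : comp' (H := H) U g j ((kernel.ι m ▷ N').app (op V) k) = ∑ l, x l (pr U g j) • (e l).1.2 := by
      rw [hT]
      refine (congrArg _ (map_sum ((kernel.ι m ▷ N').app (op V)).hom _ _)).trans ?_
      refine (map_sum _ _ _).trans ?_
      rw [← Finset.sum_coe_sort T, ← e.sum_comp]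
      rfl
    have h2 : comp' (H := H) U g j (res (Fp O U s ⊗ N' : PM O) g.op z) = res N' g.op (h j) := by
      refine (congrArg _ (map_sum (res (Fp O U s ⊗ N' : PM O) g.op) _ _)).trans ?_
      refine (map_sum _ _ _).trans ?_
      rw [Finset.sum_eq_single j]
      · refine (congrArg (fun q => comp' (H := H) U g j (q ⊗ₜ[O.obj.obj (op V)] res N' g.op (h j)))
          (Fp_res_single_one U s g.op _)).trans ?_
        refine (comp'_tmul U g j _ _).trans ?_
        change (Finsupp.single (pr U (g ≫ 𝟙 U) j) (1 : O.obj.obj (op V))) (pr U g j) • _ = _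
        rw [Category.comp_id]
        exact (congrArg (· • _) Finsupp.single_eq_same).trans (one_smul _ _)
      · intro i _ hi
        refine (congrArg (fun q => comp' (H := H) U g j (q ⊗ₜ[O.obj.obj (op V)] res N' g.op (h i)))
          (Fp_res_single_one U s g.op _)).trans ?_
        refine (comp'_tmul U g j _ _).trans ?_
        refine (congrArg (· • _) (Finsupp.single_eq_of_ne fun e => ?_)).trans (zero_smul _ _)
        exact hi (congrArg (fun q : (V ⟶ U) × ULift.{u} (Fin s) => q.2.down) e).symm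
      · simp
    rw [← h2, ← hk, h1]
  · have h0 : evE U g (m.app (op V) (x l)) = 0 := by
      have hc : (kernel.ι m ≫ m).app (op V) = 0 := by rw [kernel.condition]; rfl
      exact (congrArg (evE U g) (ConcreteCategory.congr_hom hc (e l).1.1)).trans (map_zero _)
    refine Eq.trans ?_ ((row_app_apply U a g (x l)).symm.trans h0)
    exact Finset.sum_congr rfl fun j _ => mul_comm _ _

/-- Equational criterion for finitely many relations. -/
theorem exists_local_trivialisation_matrix (hH : ModSite.IsFlat H) {U : C} {s : ℕ} (r : ℕ)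
    (A : Fin r → Fin s → O.obj.obj (op U)) (h : Fin s → ((fg O).obj H).obj (op U))
    (hAh : ∀ i, ∑ j, A i j • h j = 0) :
    ∃ S ∈ J U, ∀ ⦃V : C⦄ (g : V ⟶ U), S g →
      ∃ (t : ℕ) (b : Fin s → Fin t → O.obj.obj (op V)) (y : Fin t → ((fg O).obj H).obj (op V)),
        (∀ j, res ((fg O).obj H) g.op (h j) = ∑ k, b j k • y k) ∧
        ∀ i k, ∑ j, (O.obj.map g.op).hom (A i j) * b j k = 0 := by
  classical
  induction r with
  | zero =>
    refine ⟨⊤, J.top_mem U, fun V g _ => ⟨s, fun j k => if j = k then 1 else 0,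
      fun k => res ((fg O).obj H) g.op (h k), fun j => ?_, fun i => i.elim0⟩⟩
    simp [ite_smul]
  | succ r ih =>
    obtain ⟨S, hS, hS'⟩ := ih (fun i => A i.castSucc) fun i => hAh _
    have key : ∀ ⦃V : C⦄ (g : V ⟶ U), S g → ∃ T ∈ J V, ∀ ⦃W : C⦄ (f : W ⟶ V), T f →
        ∃ (t : ℕ) (b : Fin s → Fin t → O.obj.obj (op W)) (y : Fin t → ((fg O).obj H).obj (op W)),
          (∀ j, res ((fg O).obj H) (f ≫ g).op (h j) = ∑ k, b j k • y k) ∧
          ∀ i k, ∑ j, (O.obj.map (f ≫ g).op).hom (A i j) * b j k = 0 := by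
      intro V g hg
      obtain ⟨t, b, y, h1, h2⟩ := hS' g hg
      have hlast : ∑ k, (∑ j, (O.obj.map g.op).hom (A (Fin.last r) j) * b j k) • y k = 0 := by
        have := congrArg (res ((fg O).obj H) g.op) (hAh (Fin.last r))
        rw [map_sum, map_zero] at this
        refine Eq.trans ?_ this
        simp only [Finset.sum_smul, res_smul, h1, Finset.smul_sum, smul_smul]
        exact Finset.sum_comm
      obtain ⟨T, hT, hT'⟩ := exists_local_trivialisation hH _ y hlast
      refine ⟨T, hT, fun W f hf => ?_⟩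
      obtain ⟨t', b', y', h1', h2'⟩ := hT' f hf
      have hmap : ∀ (x : O.obj.obj (op U)),
          (O.obj.map (f ≫ g).op).hom x = (O.obj.map f.op).hom ((O.obj.map g.op).hom x) := fun x => by
        rw [op_comp, Functor.map_comp]; rfl
      have hres : ∀ (x : ((fg O).obj H).obj (op U)), res ((fg O).obj H) (f ≫ g).op x =
          res ((fg O).obj H) f.op (res ((fg O).obj H) g.op x) := fun x => by
        rw [op_comp, res_comp]
      refine ⟨t', fun j l => ∑ k, (O.obj.map f.op).hom (b j k) * b' k l, y', fun j => ?_, ?_⟩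
      · rw [hres, h1, map_sum]
        simp only [res_smul, h1', Finset.smul_sum, smul_smul, Finset.sum_smul]
        exact Finset.sum_comm
      · intro i l
        have e : ∑ j, (O.obj.map (f ≫ g).op).hom (A i j) * ∑ k, (O.obj.map f.op).hom (b j k) * b' k l =
            ∑ k, (O.obj.map f.op).hom (∑ j, (O.obj.map g.op).hom (A i j) * b j k) * b' k l := by
          simp only [Finset.mul_sum, Finset.sum_mul, map_sum, map_mul, hmap, mul_assoc]
          exact Finset.sum_comm
        rw [e]
        refine Fin.lastCases ?_ (fun i' => ?_) i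
        · exact h2' l
        · simp only [h2 i', map_zero, zero_mul, Finset.sum_const_zero]
    choose T hT hT' using key
    refine ⟨Sieve.bind S.arrows T, J.bind_covering hS hT, fun V g hg => ?_⟩
    obtain ⟨W, f, g', hg', hf, rfl⟩ := hg
    exact hT' g' hg' f hf

end Groth.Agent.EqFlat
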