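import Groth.Agent.EqFlat.Over

/-!
# Local factorisation through free modules
-/

universe u

open CategoryTheory Limits Opposite

namespace Groth.Agent.EqFlat

open Groth.Agent.ModGroth SheafOfModules

variable {C : Type u} [SmallCategory C] {J : GrothendieckTopology C} {O : Sheaf J CommRingCat.{u}}

/-- `φ` factors through a finite free module on the slice over `V`. -/
def Factors {F H : ModSite.Mod O} (φ : F ⟶ H) (V : C) : Prop :=
  ∃ (n : ℕ) (a : (ModSite.restr O V).obj F ⟶ SheafOfModules.free (ULift.{u} (Fin n)))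
    (b : SheafOfModules.free (ULift.{u} (Fin n)) ⟶ (ModSite.restr O V).obj H),
      a ≫ b = (ModSite.restr O V).map φ

/-- Matrices `b`, `y` with `a b = 0` and `b y` equal to the values of `ψ` on the generators give a
factorisation of `ψ` through the free object. -/
lemma exists_factor {D : Type (u + 1)} [Category.{u} D] [Preadditive D] {e : D} {σ ρ τ : Type u}
    [Fintype σ] [Fintype τ] {S Rl Q M T : D} (ιS : σ → (e ⟶ S)) (hS : IsColimit (Cofan.mk S ιS))
    (ιR : ρ → (e ⟶ Rl)) (hR : IsColimit (Cofan.mk Rl ιR)) (ιT : τ → (e ⟶ T))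
    (hT : IsColimit (Cofan.mk T ιT)) (rel : Rl ⟶ S) (π : S ⟶ Q) {w : rel ≫ π = 0}
    (hQ : IsColimit (CokernelCofork.ofπ π w)) (ψ : Q ⟶ M) (a : ρ → σ → (e ⟶ e))
    (hdec : ∀ i, ιR i ≫ rel = ∑ j, a i j ≫ ιS j) (b : σ → τ → (e ⟶ e)) (y : τ → (e ⟶ M))
    (hb : ∀ i l, ∑ j, a i j ≫ b j l = 0) (hy : ∀ j, ∑ l, b j l ≫ y l = ιS j ≫ π ≫ ψ) :
    ∃ (d : Q ⟶ T) (m : T ⟶ M), d ≫ m = ψ := by
  let bm : S ⟶ T := Cofan.IsColimit.desc hS fun j => ∑ l, b j l ≫ ιT l
  have hbm : ∀ j, ιS j ≫ bm = ∑ l, b j l ≫ ιT l := fun j => Cofan.IsColimit.fac hS _ j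
  have hk : rel ≫ bm = 0 := by
    refine Cofan.IsColimit.hom_ext hR _ _ fun i => ?_
    change ιR i ≫ rel ≫ bm = ιR i ≫ 0
    rw [comp_zero, ← Category.assoc, hdec, Preadditive.sum_comp]
    simp only [Category.assoc, hbm, Preadditive.comp_sum]
    rw [Finset.sum_comm]
    refine Finset.sum_eq_zero fun l _ => ?_
    simp only [← Category.assoc, ← Preadditive.sum_comp, hb i l, zero_comp]
  obtain ⟨d, hd⟩ := CokernelCofork.IsColimit.desc' hQ bm hk
  refine ⟨d, Cofan.IsColimit.desc hT y, ?_⟩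
  have : Epi π := epi_of_isColimit_cofork hQ
  rw [← cancel_epi π, ← Category.assoc, show π ≫ d = bm from hd]
  refine Cofan.IsColimit.hom_ext hS _ _ fun j => ?_
  change ιS j ≫ bm ≫ Cofan.IsColimit.desc hT y = ιS j ≫ π ≫ ψ
  rw [← Category.assoc, hbm, Preadditive.sum_comp, ← hy]
  refine Finset.sum_congr rfl fun l _ => ?_
  rw [Category.assoc]
  exact congrArg (b j l ≫ ·) (Cofan.IsColimit.fac hT y l)

set_option maxHeartbeats 2000000 in
/-- Over an object with a finite presentation of `F`, morphisms to a flat module factor locally. -/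
lemma exists_local_factors {F H : ModSite.Mod O} (hH : ModSite.IsFlat H) (φ : F ⟶ H) {X₀ Y : C}
    (P : (SheafOfModules.over F X₀).Presentation) [P.IsFinite] (q : Y ⟶ X₀) :
    ∃ T ∈ J Y, ∀ ⦃V : C⦄ (f : V ⟶ Y), T f → Factors φ V := by
  classical
  let R := ModSite.ringSh O
  let σ := P.generators.I
  let ρ := P.relations.I
  have : Fintype σ := Fintype.ofFinite σ
  have : Fintype ρ := Fintype.ofFinite ρ
  let eσ : Fin (Fintype.card σ) ≃ σ := (Fintype.equivFin σ).symm
  let eρ : Fin (Fintype.card ρ) ≃ ρ := (Fintype.equivFin ρ).symm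
  let π : free σ ⟶ SheafOfModules.over F X₀ := P.generators.π
  let rel : free ρ ⟶ free σ :=
    (freeHomEquiv _).symm P.relations.s ≫ kernel.ι P.generators.π
  have hrel : rel ≫ π = 0 := by simp [rel, π]
  let φ₀ := (SheafOfModules.overFunctor R X₀).map φ
  let a : ρ → σ → (SheafOfModules.unit (R.over X₀) ⟶ SheafOfModules.unit (R.over X₀)) :=
    fun i j => ιFree i ≫ rel ≫ proj j
  let hmor : σ → (SheafOfModules.unit (R.over X₀) ⟶ SheafOfModules.over H X₀) :=
    fun j => ιFree j ≫ π ≫ φ₀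
  have hdec : ∀ i, ιFree i ≫ rel = ∑ j, a i j ≫ ιFree j := by
    intro i
    refine (Category.comp_id _).symm.trans ?_
    rw [← sum_proj_ιFree (σ := σ), Preadditive.comp_sum]
    exact Finset.sum_congr rfl fun j _ => by simp only [a, Category.assoc]
  have hzero : ∀ i, ∑ j, a i j ≫ hmor j = 0 := by
    intro i
    have h1 : (ιFree i ≫ rel) ≫ (π ≫ φ₀) = 0 := by
      rw [Category.assoc, reassoc_of% hrel, zero_comp, comp_zero]
    rw [hdec, Preadditive.sum_comp] at h1
    refine Eq.trans (Finset.sum_congr rfl fun j _ => ?_) h1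
    simp only [hmor, Category.assoc]
  let W₀ : Over X₀ := Over.mk q
  let h : Fin (Fintype.card σ) → ((fg O).obj H).obj (op Y) := fun j => ev W₀ (hmor (eσ j))
  let A : Fin (Fintype.card ρ) → Fin (Fintype.card σ) → O.obj.obj (op Y) :=
    fun i j => sc W₀ (a (eρ i) (eσ j))
  have hAh : ∀ i, ∑ j, A i j • h j = 0 := by
    intro i
    have h1 := congrArg (ev W₀) (hzero (eρ i))
    rw [map_sum, map_zero, ← eσ.sum_comp] at h1
    refine Eq.trans (Finset.sum_congr rfl fun j _ => ?_) h1
    exact (ev_comp W₀ _ _).symm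
  obtain ⟨T, hT, hT'⟩ := exists_local_trivialisation_matrix hH _ A h hAh
  refine ⟨T, hT, fun V f hf => ?_⟩
  obtain ⟨t, b, y, hby, hAb⟩ := hT' f hf
  let p : V ⟶ X₀ := f ≫ q
  let G := SheafOfModules.overMap.{u} R p
  have hG : PreservesColimitsOfSize.{u, u} G :=
    pushforward_preservesColimits_of_isCocontinuous _
  have : PreservesFiniteColimits G := PreservesColimitsOfSize.preservesFiniteColimits _
  have : G.PreservesZeroMorphisms := Functor.preservesZeroMorphisms_of_preserves_initial_object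
  have := preservesBinaryBiproducts_of_preservesBinaryCoproducts G
  have : G.Additive := Functor.additive_of_preservesBinaryBiproducts G
  let k : (Over.map p).obj (top' V) ⟶ W₀ := Over.homMk f (by simp [W₀, p, top'])
  have hval_h : ∀ j, ev (top' V) (G.map (hmor (eσ j))) = res ((fg O).obj H) f.op (h j) := fun j =>
    (ev_map (hmor (eσ j)) k).symm
  have hval_A : ∀ i j, sc (top' V) (G.map (a (eρ i) (eσ j))) = (O.obj.map f.op).hom (A i j) := fun i j =>
    (ev_map (a (eρ i) (eσ j)) k).symm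
  let τ := ULift.{u} (Fin t)
  let bb : σ → τ → (SheafOfModules.unit (R.over V) ⟶ SheafOfModules.unit (R.over V)) :=
    fun j l => mkHom (M := SheafOfModules.unit (R.over V)) (b (eσ.symm j) l.down)
  let yy : τ → (SheafOfModules.unit (R.over V) ⟶ G.obj (SheafOfModules.over H X₀)) :=
    fun l => mkHom (M := G.obj (SheafOfModules.over H X₀)) (y l.down)
  let aV : ρ → σ → (SheafOfModules.unit (R.over V) ⟶ SheafOfModules.unit (R.over V)) :=
    fun i j => G.map (a i j)
  let ιS : σ → (SheafOfModules.unit (R.over V) ⟶ G.obj (free σ)) := fun j => G.map (ιFree j)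
  let ιR : ρ → (SheafOfModules.unit (R.over V) ⟶ G.obj (free ρ)) := fun i => G.map (ιFree i)
  have hS : IsColimit (Cofan.mk (G.obj (free σ)) ιS) :=
    isColimitCofanMkObjOfIsColimit G _ _ (isColimitFreeCofan σ)
  have hR : IsColimit (Cofan.mk (G.obj (free ρ)) ιR) :=
    isColimitCofanMkObjOfIsColimit G _ _ (isColimitFreeCofan ρ)
  have hdecV : ∀ i, ιR i ≫ G.map rel = ∑ j, aV i j ≫ ιS j := fun i =>
    (G.map_comp _ _).symm.trans ((congrArg G.map (hdec i)).trans
      ((G.map_sum _ _).trans (Finset.sum_congr rfl fun j _ => G.map_comp _ _)))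
  have hb : ∀ i l, ∑ j, aV i j ≫ bb j l = 0 := by
    intro i l
    apply hom_ext_top
    rw [map_sum, map_zero, ← eσ.sum_comp]
    obtain ⟨i, rfl⟩ := eρ.surjective i
    refine Eq.trans (Finset.sum_congr rfl fun j _ => ?_) (hAb i l.down)
    refine (ev_comp (top' V) (aV (eρ i) (eσ j)) (bb (eσ j) l)).trans ?_
    refine (congrArg₂ (fun r m => r • m) (hval_A i j)
      (ev_mkHom (M := SheafOfModules.unit (R.over V)) _)).trans ?_
    rw [Equiv.symm_apply_apply]
    rfl
  have hy : ∀ j, ∑ l, bb j l ≫ yy l = ιS j ≫ G.map π ≫ G.map φ₀ := by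
    intro j
    apply hom_ext_top
    obtain ⟨j, rfl⟩ := eσ.surjective j
    have h2 : ev (top' V) (ιS (eσ j) ≫ G.map π ≫ G.map φ₀) = res ((fg O).obj H) f.op (h j) := by
      refine Eq.trans (congrArg (ev (top' V)) ?_) (hval_h j)
      exact ((congrArg (G.map (ιFree (eσ j)) ≫ ·) (G.map_comp π φ₀).symm).trans
        (G.map_comp _ _).symm)
    rw [map_sum, h2, hby, ← Equiv.ulift.{u}.symm.sum_comp]
    refine Finset.sum_congr rfl fun l _ => ?_
    refine (ev_comp (top' V) _ _).trans ?_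
    refine (congrArg₂ (fun (r : (R.over V).obj.obj (op (top' V)))
        (m : (G.obj (SheafOfModules.over H X₀)).val.obj (op (top' V))) => r • m)
      (ev_mkHom (M := SheafOfModules.unit (R.over V)) _)
      (ev_mkHom (M := G.obj (SheafOfModules.over H X₀)) _)).trans ?_
    rw [Equiv.symm_apply_apply]
    rfl
  obtain ⟨d, m, hdm⟩ := exists_factor ιS hS ιR hR (fun l => ιFree l) (isColimitFreeCofan τ)
    (G.map rel) (G.map π) (w := by rw [← G.map_comp, hrel, G.map_zero]) (CokernelCofork.mapIsColimit (CokernelCofork.ofπ π hrel) P.isColimit G)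
    (G.map φ₀) aV hdecV bb yy hb hy
  let e := SheafOfModules.overFunctorMap.{u} R p
  refine ⟨t, e.inv.app F ≫ d, m ≫ e.hom.app H, ?_⟩
  change (e.inv.app F ≫ d) ≫ m ≫ e.hom.app H = (SheafOfModules.overFunctor R V).map φ
  rw [Category.assoc, reassoc_of% hdm]
  refine (congrArg (e.inv.app F ≫ ·) (e.hom.naturality φ)).trans ?_
  exact (e.inv_hom_id_app_assoc F _)

end Groth.Agent.EqFlat
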